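import Cfsg.Agent.Lib.AltSectExc52.G2
import Cfsg.Agent.Lib.LieTwisted.Twist.D4

/-! Alternating sections of the triality groups ³D₄(q). -/

set_option autoImplicit false
set_option maxRecDepth 100000
set_option linter.unusedSectionVars false

namespace Cfsg.Agent.Lib.AltSectExc52

open Cfsg.Lie Cfsg.Agent.Lib.LieTwisted.Twist
open scoped MatrixGroups

theorem d4_rel : relOK ChevStructure.Data.D4.fast D4.Js 0 1 6 = true := by decide +kernel

section
variable {K : Type*} [Field K] [Fintype K] {q : ℕ} {φ : K ≃+* K} (F : Frob.Facts K q 3 φ) (hq1 : 1 < q)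
  (hK : Fintype.card K = q ^ 3)

theorem d4_torsion :
    Nat.card {h : ↥(D4.orth F hq1 hK).tw.W // h ∈ (D4.orth F hq1 hK).tw.H1 ∧ h * h = 1} ≤ 4 := by
  classical
  set O := D4.orth F hq1 hK
  have key : ∀ h : {h : ↥O.tw.W // h ∈ O.tw.H1 ∧ h * h = 1},
      ∃ d : O.TF, D4.C.HT K d.1 = ((h.1 : ↥O.tw.W) : GL chevD4.Idx K) ∧ d * d = 1 := by
    intro h
    obtain ⟨c, hc⟩ := D4.C.mem_diagonal_iff.1 (O.tw.mem_H1.1 h.2.1)
    have hf := O.G1_fix _ h.1.2
    rw [hc, O.Θ_HT] at hf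
    obtain ⟨d, hd, e⟩ := O.lang c hf
    refine ⟨⟨d, hd⟩, e.trans hc.symm, ?_⟩
    have hsq : D4.C.HT K (d * d) = 1 := by
      rw [← D4.C.HT_mul, e, ← hc, ← Subgroup.coe_mul, h.2.2, Subgroup.coe_one]
    have hk := D4.ker_TF F hq1 hK
    rw [Subgroup.card_eq_one] at hk
    have hmem : (⟨d, hd⟩ * ⟨d, hd⟩ : O.TF) ∈ ((D4.C.HThom K).comp O.TF.subtype).ker :=
      MonoidHom.mem_ker.2 hsq
    rw [hk, Subgroup.mem_bot] at hmem
    exact hmem
  choose d hd hd2 using key
  have hsq : ∀ h j, (d h).1 j * (d h).1 j = 1 := fun h j =>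
    congrFun (congrArg Subtype.val (hd2 h)) j
  refine le_trans (Nat.card_le_card_of_injective (fun h =>
    ((⟨_, hsq h ⟨0, by decide⟩⟩, ⟨_, hsq h ⟨1, by decide⟩⟩) : {u : Kˣ // u * u = 1} × {u : Kˣ // u * u = 1}))
    fun h g e => ?_) ?_
  · simp only [Prod.mk.injEq, Subtype.mk.injEq] at e
    obtain ⟨-, h2, h3⟩ := (D4.mem_TF F hq1 hK (d h).1).1 (d h).2
    obtain ⟨-, g2, g3⟩ := (D4.mem_TF F hq1 hK (d g).1).1 (d g).2
    have e2 : (d h).1 ⟨2, by decide⟩ = (d g).1 ⟨2, by decide⟩ := by rw [← h2, ← g2, e.1]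
    have e3 : (d h).1 ⟨3, by decide⟩ = (d g).1 ⟨3, by decide⟩ := by rw [← h3, ← g3, e2]
    apply Subtype.ext; apply Subtype.ext
    rw [← hd h, ← hd g]
    refine congrArg _ (funext fun i => ?_)
    have hi : i = ⟨0, by decide⟩ ∨ i = ⟨1, by decide⟩ ∨ i = ⟨2, by decide⟩ ∨ i = ⟨3, by decide⟩ := by
      revert i; decide
    rcases hi with rfl | rfl | rfl | rfl
    · exact e.1
    · exact e.2
    · exact e2
    · exact e3
  · rw [Nat.card_prod]
    exact (Nat.mul_le_mul (card_sq_one K) (card_sq_one K)).trans (by norm_num)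

/-- The bound for ³D₄ over a field with the needed roots of unity. -/
theorem d4_bound {p : ℕ} (h5 : p ≠ 5 → q ≡ 1 [MOD 5]) (h8 : p = 5 → q ≡ 1 [MOD 8])
    (r : ℕ) (H : Subgroup ↥(D4.orth F hq1 hK).tw.W) (π : ↥H →* ↥(alternatingGroup (Fin r)))
    (hπ : Function.Surjective π) : r ≤ 6 + (if p = 5 then 1 else 0) := by
  let T := (D4.orth F hq1 hK).tw
  let a : Fin T.nn := (0 : Fin 2)
  let b : Fin T.nn := (1 : Fin 2)
  have hab : ∀ m : Fin T.nn, m = a ∨ m = b := by
    have key : ∀ m : Fin 2, m = 0 ∨ m = 1 := by decide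
    exact key
  have hcard : Nat.card ↥T.WT = 12 := by
    rw [T.card_WT (fun k => (D4.reps.getD k []).map (ChevStructure.toFinL T.nn)) (D4.levelT F hq1 hK)]
    simp only [List.length_map]
    show ∏ k ∈ Finset.range 2, (D4.reps.getD k []).length = 12
    decide +kernel
  exact bound T a b hab (rel_of_relOK ChevStructure.Cert.D4.certified T D4.Js (D4.Js_spec F hq1 hK) d4_rel)
    hcard h5 h8 (fun _ => d4_torsion F hq1 hK) r H π hπ

end

/-- Matrices of root words commute with field homomorphisms. -/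
theorem wordMat_map {D : ChevalleyDatum} (C : ChevStructure.Core D) {F F' : Type*} [Field F] [Field F'] (f : F →+* F') :
    ∀ w : List (ℕ × F), (∀ p ∈ w, p.1 < D.nroots) →
      (D.wordMat F w).map f = D.wordMat F' (w.map fun p => (p.1, f p.2))
  | [], _ => by
    simp [ChevalleyDatum.wordMat, Matrix.map_one]
  | p :: w, h => by
    have ih := wordMat_map C f w fun x hx => h x (List.mem_cons_of_mem _ hx)
    simp only [ChevalleyDatum.wordMat, List.map_cons, List.prod_cons] at ih ⊢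
    rw [Matrix.map_mul, ih]
    congr 1
    have hp := h p List.mem_cons_self
    rw [show p.1 = (⟨p.1, hp⟩ : Fin D.nroots).val from rfl, C.xI_eq_x F, C.xI_eq_x F', C.xI_map F f]

/-- ³D₄(q) embeds in ³D₄(q') along a field homomorphism compatible with the two twists. -/
theorem exists_d4Map {K K' : Type*} [Field K] [Field K'] (f : K →+* K') {q q' : ℕ}
    (h1 : ∀ t, t ^ q = t → (f t) ^ q' = f t) (h2 : ∀ t, (f t) ^ q' = f (t ^ q)) :
    ∃ φ : ↥(twistedD4 K q) →* ↥(twistedD4 K' q'), Function.Injective φ := by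
  have h3 : ∀ t, (f t) ^ q' ^ 2 = f (t ^ q ^ 2) := fun t => by rw [pow_two, pow_mul, h2, h2, ← pow_mul, ← pow_two]
  have hr : d4p1 < chevD4.nroots ∧ d4p2 < chevD4.nroots ∧ d4p3 < chevD4.nroots ∧ d4p4 < chevD4.nroots ∧
      d4m1 < chevD4.nroots ∧ d4m2 < chevD4.nroots ∧ d4m3 < chevD4.nroots ∧ d4m4 < chevD4.nroots := by decide
  obtain ⟨r1, r2, r3, r4, s1, s2, s3, s4⟩ := hr
  have hle : twistedD4 K q ≤ (twistedD4 K' q').comap (Matrix.GeneralLinearGroup.map (n := chevD4.Idx) f) := by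
    refine (Subgroup.closure_le _).2 ?_
    rintro x ⟨w, hw, hx⟩
    have hlt : ∀ p ∈ w, p.1 < chevD4.nroots := by
      intro p hp
      rcases hw with ⟨t, -, r, hr', rfl⟩ | ⟨t, rs, hr', rfl⟩ <;>
        simp only [List.mem_cons, List.not_mem_nil, or_false] at hr' hp
      · subst hp
        rcases hr' with rfl | rfl
        exacts [r2, s2]
      · rcases hr' with rfl | rfl <;> rcases hp with rfl | rfl | rfl
        exacts [r1, r3, r4, s1, s3, s4]
    refine Subgroup.subset_closure ⟨w.map fun p => (p.1, f p.2), ?_, ?_⟩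
    · rcases hw with ⟨t, ht, r, hr', rfl⟩ | ⟨t, rs, hr', rfl⟩
      · exact Or.inl ⟨f t, h1 t ht, r, hr', rfl⟩
      · refine Or.inr ⟨f t, rs, hr', ?_⟩
        simp [h2, h3]
    · rw [← wordMat_map D4.C f w hlt, ← hx]
      rfl
  refine ⟨((Matrix.GeneralLinearGroup.map (n := chevD4.Idx) f).comp (twistedD4 K q).subtype).codRestrict _
    (fun g => hle g.2), fun a b h => Subtype.ext (Units.ext (Matrix.ext fun i j => f.injective ?_))⟩
  exact congrFun (congrFun (congrArg
    (fun x : ↥(twistedD4 K' q') => ((x : GL chevD4.Idx K') : Matrix chevD4.Idx chevD4.Idx K')) h) i) j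

end Cfsg.Agent.Lib.AltSectExc52
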