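import Cfsg.Agent.Lib.AltSectExc52.TorusTwo
import Cfsg.Agent.Lib.ChevStructure.Order.CertG2

/-! Alternating sections of the groups of type G₂. -/

set_option autoImplicit false
set_option maxRecDepth 100000
set_option linter.unusedSectionVars false

namespace Cfsg.Agent.Lib.AltSectExc52

open Cfsg.Lie Cfsg.Agent.Lib.LieTwisted.Twist
open Cfsg.Agent.Lib.ChevStructure (toFinL)
open scoped MatrixGroups

/-- The orbits of the trivial symmetry. -/
def jsG2 : List (List ℕ) := [[0], [1]]

theorem g2_rel : relOK ChevStructure.Data.G2.fast jsG2 0 1 6 = true := by decide +kernel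

theorem g2_levels : ∀ k < 2, levelOK ChevStructure.Data.G2.fast jsG2 k
    (ChevStructure.Order.DataG2.reps.getD k []) (ChevStructure.Order.DataG2.wit.getD k []) = true := by
  decide +kernel

variable (K : Type*) [Field K] [Finite K]

/-- G₂ as a group with trivial twist. -/
noncomputable abbrev g2tw : Tw ChevStructure.Cert.G2.core K :=
  Tw.split ChevStructure.Cert.G2.core ChevStructure.commOK_G2 K

theorem g2_js (m : Fin (g2tw K).nn) : ((g2tw K).J m).map Fin.val = jsG2.getD m.val [] := by
  have key : ∀ m : Fin chevG2.rank, [m.val] = jsG2.getD m.val [] := by decide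
  exact key m

/-- The bound for G₂ over a field with the needed roots of unity. -/
theorem g2_bound {p : ℕ} (h5 : p ≠ 5 → Nat.card K ≡ 1 [MOD 5]) (h8 : p = 5 → Nat.card K ≡ 1 [MOD 8])
    (r : ℕ) (H : Subgroup ↥(g2tw K).W) (π : ↥H →* ↥(alternatingGroup (Fin r))) (hπ : Function.Surjective π) :
    r ≤ 6 + (if p = 5 then 1 else 0) := by
  let a : Fin (g2tw K).nn := (⟨0, by decide⟩ : Fin chevG2.rank)
  let b : Fin (g2tw K).nn := (⟨1, by decide⟩ : Fin chevG2.rank)
  have hab : ∀ m : Fin (g2tw K).nn, m = a ∨ m = b := by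
    have key : ∀ m : Fin chevG2.rank,
        m = (⟨0, by decide⟩ : Fin chevG2.rank) ∨ m = (⟨1, by decide⟩ : Fin chevG2.rank) := by decide
    exact key
  have hcard : Nat.card ↥(g2tw K).WT = 12 := by
    rw [(g2tw K).card_WT (fun k => (ChevStructure.Order.DataG2.reps.getD k []).map (toFinL (g2tw K).nn))
      fun k hk => level_of_levelOK ChevStructure.Cert.G2.certified (g2tw K) jsG2 (g2_js K) rfl
        (g2_levels k (show k < 2 from hk))]
    simp only [List.length_map]
    show ∏ k ∈ Finset.range 2, (ChevStructure.Order.DataG2.reps.getD k []).length = 12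
    decide +kernel
  exact bound (g2tw K) a b hab (rel_of_relOK ChevStructure.Cert.G2.certified (g2tw K) jsG2 (g2_js K) g2_rel) hcard
    h5 h8 (fun _ => (card_torsion_le _).trans (show 2 ^ 2 ≤ 4 by norm_num)) r H π hπ

/-- Raising the field to the fourth power gives the roots of unity. -/
theorem four_power {q p a : ℕ} (hp : p.Prime) (hq : q = p ^ a) :
    (p ≠ 5 → q ^ 4 ≡ 1 [MOD 5]) ∧ (p = 5 → q ^ 4 ≡ 1 [MOD 8]) := by
  refine ⟨fun h => ?_, fun h => ?_⟩
  · have hco : Nat.Coprime q 5 := by
      rw [hq]; exact Nat.Coprime.pow_left _ ((Nat.coprime_primes hp (by norm_num)).2 h)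
    have := Nat.ModEq.pow_totient hco
    rwa [Nat.totient_prime (by norm_num)] at this
  · have hco : Nat.Coprime q 8 := by
      rw [hq, h]; exact Nat.Coprime.pow_left _ (by norm_num)
    have h4 := Nat.ModEq.pow_totient hco
    rwa [show Nat.totient 8 = 4 by decide] at h4

end Cfsg.Agent.Lib.AltSectExc52
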