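import Cfsg.Agent.Lib.AltSectExc52.Torus
import Cfsg.Agent.Lib.LieTwisted.Twist.Poincare

/-!
The hypotheses of the rank two criteria from the congruence `q ≡ 1` modulo 5 or 8.
-/

set_option autoImplicit false
set_option linter.unusedSectionVars false

namespace Cfsg.Agent.Lib.AltSectExc52

open Cfsg.Agent.Lib.LieTwisted.Twist
open scoped MatrixGroups

/-- A dihedral group of order twelve has exponent six. -/
theorem pow_six_of_mem {M : Type*} [Group M] {s t : M} (hs : s * s = 1) (h : (s * t) ^ 6 = 1) {x : M}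
    (hx : ∃ k : ℤ, x = (s * t) ^ k ∨ x = (s * t) ^ k * s) (ht : t * t = 1) : x ^ 6 = 1 := by
  have hsi : s⁻¹ = s := inv_eq_of_mul_eq_one_right hs
  have hti : t⁻¹ = t := inv_eq_of_mul_eq_one_right ht
  obtain ⟨k, rfl | rfl⟩ := hx
  · rw [← zpow_natCast, ← zpow_mul, mul_comm, zpow_mul, zpow_natCast, h, one_zpow]
  · have e : s * (s * t) ^ k * s = ((s * t) ^ k)⁻¹ := by
      have e1 : s * (s * t) * s⁻¹ = (s * t)⁻¹ := by
        rw [mul_inv_rev, hsi, hti, ← mul_assoc, hs, one_mul]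
      rw [← inv_zpow, ← e1, conj_zpow, hsi]
    have e2 : ((s * t) ^ k * s) ^ 2 = 1 := by
      rw [pow_two, show (s * t) ^ k * s * ((s * t) ^ k * s) = (s * t) ^ k * (s * (s * t) ^ k * s) by group, e,
        mul_inv_cancel]
    rw [show (6 : ℕ) = 2 * 3 from rfl, pow_mul, e2, one_pow]

variable {D : Cfsg.Lie.ChevalleyDatum} {C : ChevStructure.Core D} {K : Type*} [Field K]

/-- The exponent of a twisted Weyl group with two generating reflections of product order six. -/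
theorem wt_pow_six (T : Tw C K) (a b : Fin T.nn) (hab : ∀ m, m = a ∨ m = b)
    (h : (T.wO a * T.wO b) ^ 6 = 1) : ∀ σ ∈ T.WT, σ ^ 6 = 1 := by
  intro σ hσ
  have hinv : ∀ m, T.wO m * T.wO m = 1 := T.J_inv
  refine pow_six_of_mem (hinv a) h ?_ (hinv b)
  refine T.WT_induction (fun σ => ∃ k : ℤ, σ = (T.wO a * T.wO b) ^ k ∨ σ = (T.wO a * T.wO b) ^ k * T.wO a)
    ⟨0, Or.inl (zpow_zero _).symm⟩ ?_ σ hσ
  rintro σ - i - ⟨k, hk⟩
  set s := T.wO a
  set t := T.wO b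
  have hσ' : σ = σ * T.wO (T.idx i) * T.wO (T.idx i) := by rw [mul_assoc, hinv, mul_one]
  rcases hk with hk | hk <;> rw [hk] at hσ' <;> rcases hab (T.idx i) with hm | hm <;> rw [hm] at hσ'
  · exact ⟨k, Or.inr hσ'⟩
  · refine ⟨k - 1, Or.inr (hσ'.trans ?_)⟩
    rw [zpow_sub_one, mul_inv_rev, show t⁻¹ = t from inv_eq_of_mul_eq_one_right (hinv b),
      show s⁻¹ = s from inv_eq_of_mul_eq_one_right (hinv a), mul_assoc, mul_assoc t s s, hinv a, mul_one]
  · exact ⟨k, Or.inl (by rw [hσ', mul_assoc, hinv a, mul_one])⟩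
  · refine ⟨k + 1, Or.inl (hσ'.trans ?_)⟩
    rw [zpow_add_one, mul_assoc]

variable [Finite K]

/-- The prime-to-torus part of the order, modulo `m`. -/
theorem factorization_eq (T : Tw C K) {ℓ m e : ℕ} (hℓ : ℓ.Prime) (hm : ℓ ^ (e + 1) ∣ m)
    (hq : T.q ≡ 1 [MOD m]) (he : ℓ ^ e ∣ Nat.card ↥T.WT) (he' : ¬ ℓ ^ (e + 1) ∣ Nat.card ↥T.WT) :
    (Nat.card ↥T.W).factorization ℓ = (Nat.card ↥T.H1).factorization ℓ + e := by
  classical
  have hH : Nat.card ↥T.H1 = Nat.card ↥(D.diagonalSubgroup K ⊓ T.W) := by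
    rw [Tw.H1, ← Subgroup.inf_subgroupOf_right]
    exact Nat.card_congr (Subgroup.subgroupOfEquivOfLe inf_le_right).toEquiv
  have hq' : T.q ≡ 1 [MOD ℓ ^ (e + 1)] := hq.of_dvd hm
  have hqℓ : ¬ ℓ ∣ T.q := fun h => hℓ.not_dvd_one
    ((Nat.ModEq.dvd_iff (hq'.of_dvd (dvd_pow_self ℓ (by omega))) dvd_rfl).1 h)
  have hsum : (∑ σ : T.WT, T.q ^ (C.len (σ : Equiv.Perm (ChevStructure.Rt D)) / T.d)) ≡
      Nat.card ↥T.WT [MOD ℓ ^ (e + 1)] := by
    rw [Nat.card_eq_fintype_card, Fintype.card_eq_sum_ones, ← (ZMod.natCast_eq_natCast_iff _ _ _), Nat.cast_sum,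
      Nat.cast_sum]
    refine Finset.sum_congr rfl fun σ _ => ?_
    rw [(ZMod.natCast_eq_natCast_iff _ _ _).2 (hq'.pow _), one_pow]
  set S := ∑ σ : T.WT, T.q ^ (C.len (σ : Equiv.Perm (ChevStructure.Rt D)) / T.d) with hS
  have h1 : ℓ ^ e ∣ S := (Nat.ModEq.dvd_iff (hsum.of_dvd (pow_dvd_pow ℓ (Nat.le_succ e))) dvd_rfl).2 he
  have h2 : ¬ ℓ ^ (e + 1) ∣ S := fun h => he' ((Nat.ModEq.dvd_iff hsum dvd_rfl).1 h)
  have hS0 : S ≠ 0 := fun h => h2 (by rw [h]; exact dvd_zero _)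
  have hfS : S.factorization ℓ = e := by
    rw [Nat.Prime.pow_dvd_iff_le_factorization hℓ hS0] at h1 h2
    omega
  rw [T.card_W, T.card_borel, ← hH, ← hS, Nat.factorization_mul (Nat.mul_ne_zero
    (pow_ne_zero _ fun h => hqℓ (by rw [h]; exact dvd_zero _)) Nat.card_pos.ne') hS0, Finsupp.add_apply, hfS,
    Nat.factorization_mul (pow_ne_zero _ fun h => hqℓ (by rw [h]; exact dvd_zero _)) Nat.card_pos.ne',
    Finsupp.add_apply, Nat.factorization_eq_zero_of_not_dvd (fun h => hqℓ (hℓ.dvd_of_dvd_pow h)), zero_add]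

/-- The two criteria together. -/
theorem bound (T : Tw C K) {p : ℕ} (a b : Fin T.nn) (hab : ∀ m, m = a ∨ m = b)
    (hrel : (T.wO a * T.wO b) ^ 6 = 1) (hcard : Nat.card ↥T.WT = 12)
    (h5 : p ≠ 5 → T.q ≡ 1 [MOD 5]) (h8 : p = 5 → T.q ≡ 1 [MOD 8])
    (htor : p = 5 → Nat.card {h : ↥T.W // h ∈ T.H1 ∧ h * h = 1} ≤ 4)
    (r : ℕ) (H : Subgroup ↥T.W) (π : ↥H →* ↥(alternatingGroup (Fin r))) (hπ : Function.Surjective π) :
    r ≤ 6 + (if p = 5 then 1 else 0) := by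
  by_contra hr
  by_cases hp : p = 5
  · rw [if_pos hp] at hr
    obtain ⟨H0, π0, h0⟩ := exists_smaller (n := 8) (by omega) H π hπ
    exact no_eight T hcard (factorization_eq T Nat.prime_two (m := 8) (by norm_num) (h8 hp) (by rw [hcard]; norm_num)
      (by rw [hcard]; norm_num)) (htor hp) H0 π0 h0
  · rw [if_neg hp] at hr
    obtain ⟨H0, π0, h0⟩ := exists_smaller (n := 7) (by omega) H π hπ
    exact no_seven T (wt_pow_six T a b hab hrel) (factorization_eq T (e := 0) (by norm_num) (m := 5) (by norm_num)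
      (h5 hp) (by norm_num) (by rw [hcard]; norm_num)) H0 π0 h0

end Cfsg.Agent.Lib.AltSectExc52
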