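import Cfsg.Agent.Lib.AltSectExc.Lift
import Cfsg.Agent.Lib.AltSectExc52.AltEight
import Cfsg.Agent.Lib.LieTwisted.Twist.BN

/-!
Alternating sections of the groups of Lie type whose torus has rank two and whose twisted Weyl group is dihedral
of order twelve: no section of degree seven outside characteristic five, none of degree eight for odd `q`.
-/

set_option autoImplicit false
set_option linter.unusedSectionVars false
set_option maxHeartbeats 1000000

namespace Cfsg.Agent.Lib.AltSectExc52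

open Cfsg.Agent.Lib.AltSectExc Cfsg.Agent.Lib.LieTwisted.Twist
open scoped MatrixGroups

/-- An alternating section contains those of smaller degree. -/
theorem exists_smaller {G : Type*} [Group G] {n r : ℕ} (hr : n ≤ r) (H : Subgroup G)
    (π : ↥H →* ↥(alternatingGroup (Fin r))) (hπ : Function.Surjective π) :
    ∃ (H0 : Subgroup G) (π0 : ↥H0 →* ↥(alternatingGroup (Fin n))), Function.Surjective π0 := by
  let e := Equiv.Perm.viaEmbeddingHom (Fin.castLEEmb hr)
  have hs : ∀ σ : ↥(alternatingGroup (Fin n)), e σ ∈ alternatingGroup (Fin r) := fun σ => by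
    rw [Equiv.Perm.mem_alternatingGroup]
    show Equiv.Perm.sign (Equiv.Perm.viaEmbedding (σ : Equiv.Perm (Fin n)) (Fin.castLEEmb hr)) = 1
    rw [Equiv.Perm.viaEmbedding, Equiv.Perm.sign_extendDomain]
    exact Equiv.Perm.mem_alternatingGroup.1 σ.2
  let ι := (e.comp (alternatingGroup (Fin n)).subtype).codRestrict _ hs
  have hι : Function.Injective ι := fun a b h =>
    Subtype.ext (Equiv.Perm.viaEmbeddingHom_injective _ (congrArg Subtype.val h))
  let L : Subgroup ↥H := ι.range.comap π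
  let ψ : ↥L →* ↥(alternatingGroup (Fin n)) :=
    (MonoidHom.ofInjective hι).symm.toMonoidHom.comp (π.subgroupComap ι.range)
  refine ⟨L.map H.subtype, ψ.comp (L.equivMapOfInjective H.subtype H.subtype_injective).symm.toMonoidHom, ?_⟩
  suffices hψ : Function.Surjective ψ by
    intro a
    obtain ⟨x, hx⟩ := hψ a
    exact ⟨L.equivMapOfInjective H.subtype H.subtype_injective x, by simp [hx]⟩
  intro a
  obtain ⟨h, hh⟩ := hπ (ι a)
  refine ⟨⟨h, show π h ∈ ι.range from hh ▸ ⟨a, rfl⟩⟩, ?_⟩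
  show (MonoidHom.ofInjective hι).symm _ = a
  rw [MulEquiv.symm_apply_eq]
  exact Subtype.ext hh

/-- A five-cycle and an even permutation squaring it. -/
theorem exists_five : ∃ a c : ↥(alternatingGroup (Fin 7)), orderOf a = 5 ∧ c * a * c⁻¹ = a ^ 2 := by
  let a0 : Equiv.Perm (Fin 7) :=
    { toFun := ![1, 2, 3, 4, 0, 5, 6]
      invFun := ![4, 0, 1, 2, 3, 5, 6]
      left_inv := by decide
      right_inv := by decide }
  let c0 : Equiv.Perm (Fin 7) :=
    { toFun := ![0, 2, 4, 1, 3, 6, 5]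
      invFun := ![0, 3, 1, 4, 2, 6, 5]
      left_inv := by decide
      right_inv := by decide }
  have h1 : Equiv.Perm.sign a0 = 1 := by decide
  have h2 : Equiv.Perm.sign c0 = 1 := by decide
  have h3 : c0 * a0 * c0⁻¹ = a0 ^ 2 := by decide
  have h4 : a0 ^ 5 = 1 := by decide
  have h5 : a0 ≠ 1 := by decide
  have : Fact (Nat.Prime 5) := ⟨by norm_num⟩
  exact ⟨⟨a0, Equiv.Perm.mem_alternatingGroup.2 h1⟩, ⟨c0, Equiv.Perm.mem_alternatingGroup.2 h2⟩,
    orderOf_eq_prime (Subtype.ext h4) fun h => h5 (congrArg Subtype.val h), Subtype.ext h3⟩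

/-- A homomorphism from an abelian group with at most four elements of order dividing two to a group in which
commuting elements have trivial or equal squares has image of order at most eight. -/
theorem card_range_le_eight {A U : Type*} [Group A] [Finite A] [Group U] [Finite U]
    (hA : ∀ x y : A, x * y = y * x) (h4 : Nat.card {x : A // x * x = 1} ≤ 4)
    (hU : ∀ a b : U, a * b = b * a → a * a ≠ 1 → b * b ≠ 1 → a * a = b * b) (f : A →* U) :
    Nat.card f.range ≤ 8 := by
  classical
  let sq : A →* A :=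
    { toFun := fun x => x * x
      map_one' := one_mul 1
      map_mul' := fun x y => by
        show x * y * (x * y) = x * x * (y * y)
        rw [mul_assoc x y, ← mul_assoc y x y, hA y x, mul_assoc x y y, ← mul_assoc x x] }
  have hker : Nat.card sq.ker ≤ 4 := le_trans (le_of_eq (Nat.card_congr (Equiv.refl _))) h4
  have hidx : (sq.range.map f.rangeRestrict).index ≤ 4 := by
    have h1 := Subgroup.index_map_dvd sq.range f.rangeRestrict_surjective
    have h3 : sq.range.index = Nat.card sq.ker := by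
      have h4 := Subgroup.card_mul_index sq.range
      have h5 := Subgroup.card_mul_index sq.ker
      rw [Subgroup.index_ker, mul_comm] at h5
      exact Nat.eq_of_mul_eq_mul_left Nat.card_pos (h4.trans h5.symm)
    rw [h3] at h1
    exact (Nat.le_of_dvd Nat.card_pos h1).trans hker
  have hsq2 : Nat.card ↥(sq.range.map f.rangeRestrict) ≤ 2 := by
    by_cases hall : ∀ z ∈ sq.range.map f.rangeRestrict, z = 1
    · rw [(Subgroup.eq_bot_iff_forall _).2 hall, Subgroup.card_bot]
      norm_num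
    push Not at hall
    obtain ⟨_, ⟨_, ⟨x, rfl⟩, rfl⟩, hs1⟩ := hall
    have hsub : ((sq.range.map f.rangeRestrict : Subgroup f.range) : Set f.range) ⊆
        {1, f.rangeRestrict (sq x)} := by
      rintro _ ⟨_, ⟨y, rfl⟩, rfl⟩
      by_cases hy1 : f.rangeRestrict (sq y) = 1
      · exact Or.inl hy1
      refine Or.inr (Subtype.ext ?_)
      show f (y * y) = f (x * x)
      rw [map_mul, map_mul]
      refine hU _ _ (by rw [← map_mul, hA, map_mul]) (fun h => hy1 (Subtype.ext ?_)) fun h => hs1 (Subtype.ext ?_)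
      · show f (y * y) = 1
        rw [map_mul, h]
      · show f (x * x) = 1
        rw [map_mul, h]
    have h3 := Nat.card_mono (Set.toFinite _) hsub
    refine (le_of_eq (Nat.card_congr (Equiv.refl _))).trans (h3.trans ?_)
    rw [Nat.card_coe_set_eq]
    exact (Set.ncard_insert_le _ _).trans (by simp)
  have h5 := Subgroup.card_mul_index (sq.range.map f.rangeRestrict)
  nlinarith

variable {D : Cfsg.Lie.ChevalleyDatum} {C : ChevStructure.Core D} {K : Type*} [Field K] [Finite K]

/-- No section of degree seven when the torus contains a Sylow 5-subgroup and the twisted Weyl group has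
exponent six. -/
theorem no_seven (T : Tw C K) (hσ : ∀ σ ∈ T.WT, σ ^ 6 = 1)
    (h5 : (Nat.card ↥T.W).factorization 5 = (Nat.card ↥T.H1).factorization 5)
    (H : Subgroup ↥T.W) (π : ↥H →* ↥(alternatingGroup (Fin 7))) (hπ : Function.Surjective π) : False := by
  have : Fact (Nat.Prime 5) := ⟨by norm_num⟩
  obtain ⟨a, c, ha, hc⟩ := exists_five
  obtain ⟨P, hP, hP5, ⟨x, hx, hxa⟩, hlift⟩ := exists_lift H π ha (hπ a)
  obtain ⟨y, hy, hyP, j, hj⟩ := hlift c (hπ c) (hc ▸ pow_mem (Subgroup.mem_zpowers a) 2)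
  have hbot : IsPGroup 5 ↥(⊥ : Subgroup ↥T.W) := IsPGroup.of_bot
  obtain ⟨φ, hφ⟩ := exists_conj_le_H1 T h5 h5 hP5 hbot fun z hz s _ => by
    rw [Subgroup.mem_bot] at hz
    rw [hz]
    exact Commute.one_left s
  rw [sup_bot_eq] at hφ
  obtain ⟨n, σ, hσT, hn, -, hfix⟩ := exists_monomial_pow T hφ (y := φ y) (by
    rintro _ ⟨s, hs, rfl⟩
    exact ⟨_, hyP s hs, by simp [map_mul]⟩)
  have h6 : y ^ 6 * x * (y ^ 6)⁻¹ = x := φ.injective (by
    have h := hn 6 _ ⟨x, hx, rfl⟩
    rw [(hfix 6 (hσ σ hσT) _ ⟨x, hx, rfl⟩).eq, mul_inv_cancel_right] at h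
    simpa [map_mul, map_pow] using h)
  have h7 : (⟨y, hy⟩ : ↥H) ^ 6 * ⟨x, hP hx⟩ * ((⟨y, hy⟩ : ↥H) ^ 6)⁻¹ = ⟨x, hP hx⟩ :=
    Subtype.ext (by simpa using h6)
  have h8 := congrArg π h7
  rw [map_mul, map_mul, map_inv, map_pow, hxa, hj] at h8
  have hd : a ^ j * c * a * (a ^ j * c)⁻¹ = a ^ 2 := by
    rw [show a ^ j * c * a * (a ^ j * c)⁻¹ = a ^ j * (c * a * c⁻¹) * (a ^ j)⁻¹ by group, hc]
    exact mul_inv_eq_iff_eq_mul.2 (((Commute.refl a).zpow_left j).pow_right 2).eq
  rw [pow_conj hd 6] at h8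
  conv_rhs at h8 => rw [← pow_one a]
  have h9 := pow_eq_pow_iff_modEq.1 h8
  rw [ha] at h9
  exact absurd h9 (by decide)

/-- No section of degree eight when a Sylow 2-subgroup meets the torus in index at most four and the torus has
at most four elements of order dividing two. -/
theorem no_eight (T : Tw C K) (hcard : Nat.card ↥T.WT = 12)
    (h2 : (Nat.card ↥T.W).factorization 2 = (Nat.card ↥T.H1).factorization 2 + 2)
    (htor : Nat.card {h : ↥T.W // h ∈ T.H1 ∧ h * h = 1} ≤ 4)
    (H : Subgroup ↥T.W) (π : ↥H →* ↥(alternatingGroup (Fin 8))) (hπ : Function.Surjective π) : False := by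
  classical
  have : Fact (Nat.Prime 2) := ⟨Nat.prime_two⟩
  -- the monomial group
  let M := D.monomialSubgroup K ⊓ T.W
  have hMcard : Nat.card ↥M = Nat.card ↥T.H1 * 12 := by
    rw [← Subgroup.card_mul_index T.wT.ker, Subgroup.index_ker,
      MonoidHom.range_eq_top.2 T.wT_surjective, Subgroup.card_top, hcard, T.wT_ker]
    congr 1
    have hle : D.diagonalSubgroup K ⊓ T.W ≤ M := inf_le_inf_right _ le_sup_left
    rw [Nat.card_congr (Subgroup.subgroupOfEquivOfLe hle).toEquiv, Tw.H1, ← Subgroup.inf_subgroupOf_right]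
    exact (Nat.card_congr (Subgroup.subgroupOfEquivOfLe inf_le_right).toEquiv).symm
  let ι : ↥M →* ↥T.W := Subgroup.inclusion inf_le_right
  let S0 : Sylow 2 ↥M := Classical.choice inferInstance
  let S : Sylow 2 ↥T.W := Sylow.ofCard ((S0 : Subgroup ↥M).map ι) (by
    rw [Subgroup.card_map_of_injective (Subgroup.inclusion_injective _), S0.card_eq_multiplicity, h2, hMcard,
      Nat.factorization_mul Nat.card_pos.ne' (by norm_num), Finsupp.add_apply]
    congr 2
    rw [show (12 : ℕ) = 2 ^ 2 * 3 from rfl, Nat.factorization_mul (by norm_num) (by norm_num), Finsupp.add_apply,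
      Nat.prime_two.factorization_pow, Finsupp.single_eq_same,
      Nat.factorization_eq_zero_of_not_dvd (by norm_num : ¬ 2 ∣ 3)])
  -- a 2-subgroup above the Sylow subgroup of the alternating group
  set L := sylEight.comap π
  let ψ : ↥L →* ↥sylEight := π.subgroupComap sylEight
  have hψ : Function.Surjective ψ := fun u => by
    obtain ⟨h, hh⟩ := hπ u
    exact ⟨⟨h, show π h ∈ sylEight from hh ▸ u.2⟩, Subtype.ext hh⟩
  let P0 : Sylow 2 ↥L := Classical.choice inferInstance
  let fP : ↥(P0 : Subgroup ↥L) →* ↥sylEight := ψ.comp (P0 : Subgroup ↥L).subtype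
  have hfP : Function.Surjective fP := by
    have hmap : (P0 : Subgroup ↥L).map ψ = ⊤ := by
      rw [← Subgroup.index_eq_one]
      have h1 := Subgroup.index_map_dvd (P0 : Subgroup ↥L) hψ
      have h3 : ((P0 : Subgroup ↥L).map ψ).index ∣ 2 ^ 6 := by
        have h4 := Subgroup.index_dvd_card ((P0 : Subgroup ↥L).map ψ)
        rwa [card_sylEight] at h4
      obtain ⟨i, -, hi⟩ := (Nat.dvd_prime_pow Nat.prime_two).1 h3
      rcases Nat.eq_zero_or_pos i with rfl | hi0
      · rw [hi, pow_zero]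
      · exact absurd ((dvd_pow_self 2 hi0.ne').trans (hi ▸ h1)) P0.not_dvd_index
    intro u
    obtain ⟨x, hx, hxu⟩ := Subgroup.mem_map.1 (hmap.symm ▸ Subgroup.mem_top u : u ∈ (P0 : Subgroup ↥L).map ψ)
    exact ⟨⟨x, hx⟩, hxu⟩
  -- into the chosen Sylow subgroup
  let j : ↥(P0 : Subgroup ↥L) →* ↥T.W := (H.subtype.comp L.subtype).comp (P0 : Subgroup ↥L).subtype
  have hjP : IsPGroup 2 ↥j.range := by
    rw [MonoidHom.range_eq_map]
    exact IsPGroup.map (P0.isPGroup'.of_equiv Subgroup.topEquiv.symm) j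
  obtain ⟨Q, hQ⟩ := hjP.exists_le_sylow
  obtain ⟨g, hg⟩ := MulAction.exists_smul_eq ↥T.W Q S
  let φ : ↥(P0 : Subgroup ↥L) →* ↥T.W := (MulAut.conj g).toMonoidHom.comp j
  have hφi : Function.Injective φ := (MulAut.conj g).injective.comp
    ((H.subtype_injective.comp L.subtype_injective).comp (P0 : Subgroup ↥L).subtype_injective)
  have hφS : ∀ x, φ x ∈ (S : Subgroup ↥T.W) := fun x => by
    rw [← hg]
    exact ⟨j x, hQ ⟨x, rfl⟩, rfl⟩
  have hφM : ∀ x, ((φ x : ↥T.W) : GL D.Idx K) ∈ M := fun x => by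
    obtain ⟨s, -, hs⟩ := hφS x
    rw [← hs]
    exact s.2
  let φM : ↥(P0 : Subgroup ↥L) →* ↥M := (T.W.subtype.comp φ).codRestrict M hφM
  let χ : ↥(P0 : Subgroup ↥L) →* ↥T.WT := T.wT.comp φM
  set Cc := χ.ker
  have hidx : Cc.index ∣ 4 := by
    rw [Subgroup.index_ker]
    have h1 : Nat.card χ.range ∣ 12 := hcard ▸ Subgroup.card_subgroup_dvd_card _
    have h3 : Nat.card χ.range ∣ Nat.card ↥(P0 : Subgroup ↥L) := Subgroup.card_range_dvd χ
    rw [P0.card_eq_multiplicity] at h3
    obtain ⟨i, -, hi⟩ := (Nat.dvd_prime_pow Nat.prime_two).1 h3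
    rw [hi] at h1 ⊢
    have : 2 ^ i ∣ 4 * 3 := h1
    exact (Nat.Coprime.pow_left i (by norm_num : Nat.Coprime 2 3)).dvd_of_dvd_mul_right this
  have hH1 : ∀ x ∈ Cc, φ x ∈ T.H1 := fun x hx => by
    have h1 : φM x ∈ T.wT.ker := MonoidHom.mem_ker.2 (MonoidHom.mem_ker.1 hx)
    rw [T.wT_ker, Subgroup.mem_subgroupOf] at h1
    exact T.mem_H1.2 h1.1
  have hcomm : ∀ x y : ↥Cc, x * y = y * x := fun x y => Subtype.ext (hφi (by
    rw [Subgroup.coe_mul, Subgroup.coe_mul, map_mul, map_mul]
    exact T.H1_comm (hH1 _ x.2) (hH1 _ y.2)))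
  let f : ↥Cc →* ↥sylEight := fP.comp Cc.subtype
  have hfidx : f.range.index ∣ 4 := by
    have h1 := Subgroup.index_map_dvd Cc hfP
    rw [show f.range = Cc.map fP by rw [MonoidHom.range_eq_map, ← Subgroup.map_map, ← MonoidHom.range_eq_map,
      Subgroup.range_subtype]]
    exact h1.trans hidx
  have hB : 16 ≤ Nat.card f.range := by
    have h1 := Subgroup.card_mul_index f.range
    rw [card_sylEight] at h1
    have h3 := Nat.le_of_dvd (by norm_num) hfidx
    nlinarith
  have hU : ∀ a b : ↥sylEight, a * b = b * a → a * a ≠ 1 → b * b ≠ 1 → a * a = b * b := fun a b h ha hb =>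
    Subtype.ext (sq_sylEight a.2 b.2 (congrArg Subtype.val h) (fun e => ha (Subtype.ext e))
      (fun e => hb (Subtype.ext e)))
  have h8 := card_range_le_eight hcomm (le_trans (Nat.card_le_card_of_injective
    (fun x : {x : ↥Cc // x * x = 1} => (⟨φ x.1, hH1 _ x.1.2, by
      rw [← map_mul, ← Subgroup.coe_mul, x.2, Subgroup.coe_one, map_one]⟩ :
      {h : ↥T.W // h ∈ T.H1 ∧ h * h = 1})) fun x y h =>
    Subtype.ext (Subtype.ext (hφi (congrArg Subtype.val h)))) htor) hU f
  omega

end Cfsg.Agent.Lib.AltSectExc52
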