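import Cfsg.Agent.Lib.AltSectExc52.RankTwo
import Cfsg.Agent.Lib.LieTwisted.Twist.Split
import Cfsg.Agent.Lib.LieTwisted.Twist.TorusChar
import Mathlib.RingTheory.IntegralDomain

/-! Elements of order two in a torus. -/

set_option autoImplicit false
set_option linter.unusedSectionVars false

namespace Cfsg.Agent.Lib.AltSectExc52

open Cfsg.Agent.Lib.LieTwisted.Twist

/-- There are at most two square roots of one in a field. -/
theorem card_sq_one (K : Type*) [Field K] : Nat.card {u : Kˣ // u * u = 1} ≤ 2 := by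
  classical
  have key : ∀ u : {u : Kˣ // u * u = 1}, u.1 = 1 ∨ u.1 = -1 := fun u => by
    have h : (u.1 : K) * u.1 = 1 := by rw [← Units.val_mul, u.2]; rfl
    rcases mul_self_eq_one_iff.1 h with h' | h'
    · exact Or.inl (Units.ext h')
    · exact Or.inr (Units.ext (by simpa using h'))
  refine le_trans (Nat.card_le_card_of_injective (fun u : {u : Kˣ // u * u = 1} => decide (u.1 = 1))
    fun u v h => ?_) (by simp)
  rw [decide_eq_decide] at h
  apply Subtype.ext
  rcases key u with hu | hu <;> rcases key v with hv | hv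
  · rw [hu, hv]
  · exact (hu.trans (h.1 hu).symm)
  · exact ((h.2 hv).trans hv.symm)
  · rw [hu, hv]

variable {D : Cfsg.Lie.ChevalleyDatum} {C : ChevStructure.Core D} {K : Type*} [Field K] [Finite K]

/-- A torus of rank `l` has at most `2 ^ l` elements of order dividing two. -/
theorem card_torsion_le (T : Tw C K) :
    Nat.card {h : ↥T.W // h ∈ T.H1 ∧ h * h = 1} ≤ 2 ^ D.rank := by
  classical
  choose c hc using fun h : {h : ↥T.W // h ∈ T.H1 ∧ h * h = 1} => C.mem_diagonal_iff.1 (T.mem_H1.1 h.2.1)
  have hsq : ∀ h s, C.chA (c h) s * C.chA (c h) s = 1 := fun h s => by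
    have e : C.HT K (c h * c h) = 1 := by
      rw [← C.HT_mul, ← hc h, ← Subgroup.coe_mul, h.2.2, Subgroup.coe_one]
    rw [HT_eq_diag, ← C.diag_one K] at e
    have e' := congrFun (C.diag_inj K e) s
    simp only [ChevStructure.Core.chA, Pi.mul_apply, mul_zpow, Finset.prod_mul_distrib] at e' ⊢
    exact e'
  have hlin : ∀ h s, C.chA (c h) s = ∏ m, C.chA (c h) (C.p m) ^ C.v s m := fun h s => by
    simp only [ChevStructure.Core.chA, ← Finset.prod_zpow, ← zpow_mul]
    rw [Finset.prod_comm]
    refine Finset.prod_congr rfl fun j _ => ?_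
    rw [C.A_lin j s, C.zpow_fsum]
    exact Finset.prod_congr rfl fun m _ => by rw [mul_comm]
  refine le_trans (Nat.card_le_card_of_injective
    (fun h => fun m => (⟨C.chA (c h) (C.p m), hsq h _⟩ : {u : Kˣ // u * u = 1})) fun h g e => ?_) ?_
  · apply Subtype.ext; apply Subtype.ext
    rw [hc h, hc g, HT_eq_diag, HT_eq_diag]
    refine congrArg _ (funext fun s => ?_)
    rw [hlin h s, hlin g s]
    exact Finset.prod_congr rfl fun m _ => by
      have e' : C.chA (c h) (C.p m) = C.chA (c g) (C.p m) := congrArg Subtype.val (congrFun e m)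
      rw [e']
  · rw [Nat.card_fun, Nat.card_fin]
    exact Nat.pow_le_pow_left (card_sq_one K) _

end Cfsg.Agent.Lib.AltSectExc52
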